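import Cfsg.Agent.H440.DG.Basic
import Cfsg.Agent.H440.TwoGen.HNHe
import Cfsg.Agent.H997.OutHe2
import Cfsg.Agent.S2075

/-!
# The Held group: `Cos2`, and a generating pair with an involution (helper440, for S4180)

With `ρ` fixing `a, b, c, d, e` and swapping `f, g`: `He = ⟨bdcg, bdcf⟩` and `He = ⟨d, gbcfa⟩`. The words are checked on 2058
points.
-/

set_option autoImplicit false
set_option maxRecDepth 100000

namespace Cfsg.Agent.H440.DG.He

open Subgroup Cfsg.Spor Cfsg.Spor.He Cfsg.Agent.SporadicB.HePerm Cfsg.Agent.KFacts.He.Lv Cfsg.Agent.FixBN.HeStab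
open Cfsg.Agent.H891.DG Cfsg.Agent.H440.DG.Basic

/-- the elements given by words in `p, p⁻¹, q, q⁻¹` -/
theorem wd_flat {S : Subgroup He} (ls : List (List Gen)) (h : ∀ l ∈ ls, wd l ∈ S) : wd ls.flatten ∈ S := by
  induction ls with
  | nil => exact S.one_mem
  | cons l ls ih =>
    rw [List.flatten_cons, wd_append]
    exact S.mul_mem (h l (by simp)) (ih fun m hm => h m (by simp [hm]))

/-- `S` contains a word if it contains the reversed word -/
theorem wd_inv {S : Subgroup He} {p p' : List Gen} (h : chkB (p ++ p') [] = true) (hp : wd p ∈ S) : wd p' ∈ S := by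
  have h1 := eq_of_chkB h
  rw [wd_append, wd_nil] at h1
  rw [← inv_eq_of_mul_eq_one_right h1]
  exact S.inv_mem hp

/-- generation by words for the generators -/
theorem top_of {p p' q q' : List Gen} (hp : chkB (p ++ p') [] = true) (hq : chkB (q ++ q') [] = true)
    (ls : Gen → List (List Gen)) (h1 : ∀ x : Gen, ∀ l ∈ ls x, l ∈ [p, p', q, q'])
    (h2 : ∀ x : Gen, chkB [x] (ls x).flatten = true) : closure ({wd p, wd q} : Set He) = ⊤ := by
  obtain ⟨S, hS⟩ : ∃ S, S = closure ({wd p, wd q} : Set He) := ⟨_, rfl⟩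
  have hpS : wd p ∈ S := hS ▸ subset_closure (by simp)
  have hqS : wd q ∈ S := hS ▸ subset_closure (by simp)
  have hp' := wd_inv hp hpS
  have hq' := wd_inv hq hqS
  rw [← hS]
  refine Cfsg.Agent.H440.TwoGen.Cox.eq_top_of_forall _ fun x => ?_
  have h3 := eq_of_chkB (h2 x)
  rw [wd_one] at h3
  change gn x ∈ S
  rw [h3]
  refine wd_flat _ fun l hl => ?_
  have h4 := h1 x l hl
  simp only [List.mem_cons, List.not_mem_nil, or_false] at h4
  rcases h4 with rfl | rfl | rfl | rfl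
  · exact hpS
  · exact hp'
  · exact hqS
  · exact hq'

def p1 : List Gen := [.b, .d, .c, .g]
def p'1 : List Gen := [.g, .c, .d, .b]
def q1 : List Gen := [.b, .d, .c, .f]
def q'1 : List Gen := [.f, .c, .d, .b]

/-- words for the generators -/
def ls1 : Gen → List (List Gen)
  | .a => [p1, q'1, p'1, p'1, q1, q1, p1, q'1, p'1, p'1, q1, q1, p1, q'1, p1, q'1, q'1, p1, q'1, p1, q1, p'1, q1, p'1, p'1, q1, p1, q'1, p'1, p'1, q1, q1, p1, q'1, p'1, p'1, q1, q1, p1, q'1, p1, q'1, q'1, p1, q'1, p1, q1, p'1, q1, p'1, p'1, q1, p1, q'1, p'1, p'1, q1, q1, p1, q'1, p'1, p'1, q1, q1, p1, q'1, p1, q'1, q'1, p1, q'1, p1, q1, p'1, q1, p'1, p'1, q1, p1, q'1, p'1, p'1, q1, q1, p1, q'1, p'1, p'1, q1, q1, p1, q'1, p1, q'1, q'1, p1, q'1, p1, q1, p'1, q1, p'1, p'1, q1, p1, q'1, p'1, p'1, q1, q1, p1, q'1, p'1, p'1, q1, q1, p1, q'1, p1, q'1, q'1, p1, q'1, p1, q1, p'1, q1, p'1, p'1, q1]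
  | .b => [q1, p1, p1, q'1, p'1, p'1, q1, q1, q1, p'1, p'1, p'1, q1, q1, p1, q'1, q'1, p'1]
  | .c => [p1, q'1, p'1, p'1, q1, q1, p1, q'1, p'1, p'1, q1, q1, p1, q'1]
  | .d => [p1, q'1, q'1, p1, q'1, p1, q1, p'1, q1, p'1, p'1, q1]
  | .e => [p1, q'1, p'1, q1, q1, p'1, p'1, q1, q1, p'1, q1, p'1, q1, p'1, q'1, p1, p1, q'1, q'1, p1, q1, p'1, p'1, q1, q1, p'1, p'1, q1, q1, p'1, q1, p'1, q1, p'1, q'1, p1, p1, q'1, q'1, p1, q1, p'1, q1, p'1]
  | .f => [p1, q'1, p'1, q1, q1, p'1, p'1, q1, q1, p'1, q1, p'1]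
  | .g => [q1, p'1, q'1, p1, p1, q'1, q'1, p1, q1, p'1, q1, p'1]

theorem pp1 : chkB (p1 ++ p'1) [] = true := by decide +kernel
theorem qq1 : chkB (q1 ++ q'1) [] = true := by decide +kernel
theorem mm1 : ∀ x : Gen, ∀ l ∈ ls1 x, l ∈ [p1, p'1, q1, q'1] := by
  intro x; cases x <;> decide +kernel
theorem cc1 : ∀ x : Gen, chkB [x] (ls1 x).flatten = true := by
  intro x; cases x <;> decide +kernel

theorem top1 : closure ({wd p1, wd q1} : Set He) = ⊤ := top_of pp1 qq1 ls1 mm1 cc1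

def p2 : List Gen := [.d]
def p'2 : List Gen := [.d]
def q2 : List Gen := [.g, .b, .c, .f, .a]
def q'2 : List Gen := [.a, .f, .c, .b, .g]

/-- words for the generators -/
def ls2 : Gen → List (List Gen)
  | .a => [q2, p2, q'2, p2, q'2, q'2, q'2, q'2, p2, q2, q2, q2, q2, p2, q2, p2, q2, p2, q'2, p2, q'2, p2, p2, q2, p2, q'2, p2, q'2, q'2, q'2, q'2, p2, q2, q2, q2, q2, p2, q2, p2, q2, p2, q'2, p2, q'2, p2, p2, q2, p2, q'2, p2, q'2, q'2, q'2, q'2, p2, q2, q2, q2, q2, p2, q2, p2, q2, p2, q'2, p2, q'2, p2, p2, q2, p2, q'2, p2, q'2, q'2, q'2, q'2, p2, q2, q2, q2, q2, p2, q2, p2, q2, p2, q'2, p2, q'2, p2, p2, q2, p2, q'2, p2, q'2, q'2, q'2, q'2, p2, q2, q2, q2, q2, p2, q2, p2, q2, p2, q'2, p2, q'2, p2, p2]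
  | .b => [q2, q2, p2, q'2, q'2, p2, q2, q2, p2, q'2, q'2, p2, q2, q2, p2]
  | .c => [q2, p2, q'2, p2, q'2, q'2, q'2, q'2, p2, q2, q2, q2, q2, p2, q2, p2, q2, p2, q'2, p2, q'2, p2]
  | .d => [p2]
  | .e => [q2, p2, q2, q2, q2, p2, q2, q2, q2, p2, q'2, q'2, q'2, p2, q'2, q'2, q'2, p2, p2, q'2, q'2, q'2, p2, q'2, q'2, q'2, p2, q2, q2, q2, p2, q2, q2, q2, p2, p2, q2, q2, q2, p2, q2, q2, q2, p2, q'2, q'2, q'2, p2, q'2, q'2, q'2, p2, p2, q'2, q'2, q'2, p2, q'2, q'2, q'2, p2, q2, q2, q2, p2, q2, q2, q2, p2, q'2]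
  | .f => [q2, p2, q2, q2, q2, p2, q2, q2, q2, p2, q'2, q'2, q'2, p2, q'2, q'2, q'2, p2, q'2]
  | .g => [q2, p2, q'2, q'2, q'2, p2, q'2, q'2, q'2, p2, q2, q2, q2, p2, q2, q2, q2, p2, q'2]

theorem pp2 : chkB (p2 ++ p'2) [] = true := by decide +kernel
theorem qq2 : chkB (q2 ++ q'2) [] = true := by decide +kernel
theorem mm2 : ∀ x : Gen, ∀ l ∈ ls2 x, l ∈ [p2, p'2, q2, q'2] := by
  intro x; cases x <;> decide +kernel
theorem cc2 : ∀ x : Gen, chkB [x] (ls2 x).flatten = true := by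
  intro x; cases x <;> decide +kernel

theorem top2 : closure ({wd p2, wd q2} : Set He) = ⊤ := top_of pp2 qq2 ls2 mm2 cc2

theorem rho_wd (l : List Gen) : Cfsg.Agent.H997.OutHe.rho (wd l) = wd (l.map Cfsg.Agent.H997.OutHe.sw) := by
  induction l with
  | nil => rw [List.map_nil, wd_nil, map_one]
  | cons x l ih => rw [List.map_cons, wd_cons, wd_cons, map_mul, ih, Cfsg.Agent.H997.OutHe.rho_gn]

theorem cos2 : Cos2 He := by
  refine cos2_of_out_two Cfsg.Agent.H997.OutHe.rho Cfsg.Agent.H440.TwoGen.HNHe.he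
    (out_of_card Cfsg.Agent.H997.OutHe.rho_outer Cfsg.Agent.S2075.result) (b := wd p1) ?_
  rw [rho_wd]
  exact top1

/-- **`Cos2` for the Held group.** -/
theorem cos2_he {T : Type*} [Group T] (h : Cfsg.Spor.IsoHe T) : Cos2 T := by
  obtain ⟨e⟩ := h
  exact cos2_congr e cos2

/-- an involution `c` and an element `b` with `He = ⟨c, b⟩` -/
theorem exists_invol : ∃ c b : He, c ^ 2 = 1 ∧ c ≠ 1 ∧ closure ({c, b} : Set He) = ⊤ := by
  refine ⟨wd p2, wd q2, ?_, ?_, top2⟩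
  · have h := eq_of_chkB (v := [.d, .d]) (w := []) (by decide +kernel)
    rw [wd_nil] at h
    rw [pow_two, p2, ← wd_append]
    exact h
  · intro h
    rw [p2] at h
    have h1 := congrArg (fun x => ((phi x 0 : Fin 2058) : ℕ)) h
    have h2 := congrArg (fun x => ((phi x 1 : Fin 2058) : ℕ)) h
    have h3 := congrArg (fun x => ((phi x 8 : Fin 2058) : ℕ)) h
    have h4 := congrArg (fun x => ((phi x 32 : Fin 2058) : ℕ)) h
    rw [← wd_nil] at h1 h2 h3 h4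
    simp only [phi_wd_apply] at h1 h2 h3 h4
    revert h1 h2 h3 h4
    decide +kernel

end Cfsg.Agent.H440.DG.He
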