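import Cfsg.Agent.H891.DG.Tools
import Cfsg.Agent.H440.DG.He
import Cfsg.Agent.H440.DG.ONan
import Cfsg.Agent.H440.TwoGen.Rud
import Cfsg.Agent.S1695

/-!
# S4180: `Coh` for the groups of Held, Rudvalis and O'Nan (helper440)

Each of them is generated by an involution and another element (`coh_of_equiv` is the general form).
-/

set_option autoImplicit false
set_option maxRecDepth 100000

namespace Cfsg.Agent.H440.DG.Coh

open Subgroup Cfsg.Agent.H891.DG Cfsg.Agent.H891.DG.Tools Cfsg.Agent.H440.DG.Basic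

universe u v

theorem not_comm {T : Type u} [Group T] [Finite T] [IsSimpleGroup T] (h2 : 2 ∣ Nat.card T) (h3 : Nat.card T ≠ 2) :
    ¬ IsMulCommutative T := by
  intro h
  letI : CommGroup T := { (inferInstance : Group T) with mul_comm := h.is_comm.comm }
  have hp : (Nat.card T).Prime := IsSimpleGroup.prime_card
  exact h3 ((Nat.prime_dvd_prime_iff_eq Nat.prime_two hp).1 h2).symm

theorem ne_one_of_gen {T : Type u} [Group T] (hna : ¬ IsMulCommutative T) {c b : T}
    (h : closure ({c, b} : Set T) = ⊤) : c ≠ 1 := by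
  rintro rfl
  apply hna
  have h1 : ∀ x : T, x ∈ zpowers b := by
    intro x
    have h2 : closure ({1, b} : Set T) ≤ zpowers b := by
      rw [closure_le]
      rintro x (rfl | rfl)
      · exact one_mem _
      · exact mem_zpowers _
    exact h2 (h ▸ mem_top x)
  refine ⟨⟨fun x y => ?_⟩⟩
  obtain ⟨m, rfl⟩ := mem_zpowers_iff.1 (h1 x)
  obtain ⟨n, rfl⟩ := mem_zpowers_iff.1 (h1 y)
  rw [← zpow_add, add_comm, zpow_add]

/-- **`Coh` from a generating pair with an involution**, along an isomorphism (any universes). -/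
theorem coh_of_equiv {T : Type u} [Group T] [Finite T] [IsSimpleGroup T] {H : Type v} [Group H] (e : T ≃* H)
    (h2 : 2 ∣ Nat.card H) (h3 : Nat.card H ≠ 2) {c b : H} (hc : c ^ 2 = 1)
    (h : closure ({c, b} : Set H) = ⊤) : Coh T := by
  rw [← Nat.card_congr e.toEquiv] at h2 h3
  have hna := not_comm h2 h3
  have hg := gen_equiv e h
  refine coh_of_involution hna (c := e.symm c) (b := e.symm b) ?_ (ne_one_of_gen hna hg) hg
  rw [← map_pow, hc, map_one]

/-- **`Coh` for the Held group.** -/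
theorem coh_he {T : Type u} [Group T] [Finite T] [IsSimpleGroup T] (h : Cfsg.Spor.IsoHe T) : Coh T := by
  obtain ⟨e⟩ := h
  have hc : Nat.card Cfsg.Spor.He = 4030387200 := Cfsg.Agent.S1695.result.2
  obtain ⟨c, b, hc2, -, hcb⟩ := Cfsg.Agent.H440.DG.He.exists_invol
  exact coh_of_equiv e (by rw [hc]; norm_num) (by rw [hc]; norm_num) hc2 hcb

/-- **`Coh` for the O'Nan group.** -/
theorem coh_on {T : Type u} [Group T] [Finite T] [IsSimpleGroup T] (h : Cfsg.Spor.IsoON T) : Coh T := by
  obtain ⟨e⟩ := h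
  have hc : Nat.card Cfsg.Spor.ON = 460815505920 := Cfsg.Agent.S1699.result.2
  obtain ⟨c, b, hc2, -, hcb⟩ := Cfsg.Agent.H440.DG.ONan.exists_invol
  exact coh_of_equiv e (by rw [hc]; norm_num) (by rw [hc]; norm_num) hc2 hcb

/-- **`Coh` for the Rudvalis group.** -/
theorem coh_ru {T : Type u} [Group T] [Finite T] [IsSimpleGroup T] (h : Cfsg.Spor.IsoRu T) : Coh T := by
  obtain ⟨e⟩ := h
  have hc : Nat.card Cfsg.Agent.SporadicB.RuOrder.H = 145926144000 := by
    rw [← Nat.card_congr Cfsg.Agent.RuLat.Main.equiv.toEquiv]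
    exact Cfsg.Agent.RuLat.Main.main.2.1
  have h1 := Cfsg.Agent.H440.TwoGen.Rud.closure_eq
  rw [Set.pair_comm] at h1
  refine coh_of_equiv (e.trans Cfsg.Agent.RuLat.Main.equiv) (by rw [hc]; norm_num) (by rw [hc]; norm_num) ?_ h1
  have h2 := Cfsg.Agent.RuD.Letters.rel_of_chk Cfsg.Agent.H440.TwoGen.Rud.chk_all [0, 0] (by simp)
  rw [pow_two, Cfsg.Agent.H440.TwoGen.Rud.q, ← Cfsg.Agent.SporRec.TCUpperCert.wprod_append]
  exact h2

end Cfsg.Agent.H440.DG.Coh
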